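import Cfsg.Agent.H823.O8S.Defs

/-!
# S3938-OPLUS8, (O1): the numbers (helper59)

`exists_rk` : for `q = p ^ a ≥ 4`, `q ≠ 5`, there is a primitive prime divisor `r ≥ 13` of `p ^ (6 a) - 1`, or `a = 1`,
`r = 7` and `49 ∣ p ^ 3 + 1`.
-/

set_option autoImplicit false

namespace Cfsg.Agent.H59.O8S

open Cfsg.Agent.H823.O8S
open Cfsg.Agent.H436 (Prim exists_prim)

theorem dvd_pred {p e r : ℕ} (h : Prim p e r) : e ∣ r - 1 := by
  have := Fact.mk h.prime
  rw [← h.dvd_iff]
  have h0 : (p : ZMod r) ≠ 0 := by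
    rw [Ne, ZMod.natCast_eq_zero_iff]
    exact h.not_dvd
  have h1 := ZMod.pow_card_sub_one_eq_one h0
  have hp : 0 < p ^ (r - 1) := by
    apply Nat.pos_of_ne_zero
    intro h2
    have h3 : p = 0 := by
      by_contra h4
      exact (pow_ne_zero _ h4) h2
    exact h.not_dvd (h3 ▸ dvd_zero r)
  rw [← ZMod.natCast_eq_zero_iff, Nat.cast_sub hp, Nat.cast_pow, h1, Nat.cast_one, sub_self]

/-- a prime divisor `≠ 3` of `p² - p + 1` -/
theorem prim_six {m r : ℕ} (hr : r.Prime) (hr3 : r ≠ 3) (hd : r ∣ (m + 1) * m + 1) : Prim (m + 1) 6 r := by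
  have := Fact.mk hr
  have hr2 : r ≠ 2 := by
    rintro rfl
    have h1 : 2 ∣ (m + 1) * m := by
      rcases Nat.even_or_odd m with h | h
      · exact (even_iff_two_dvd.1 h).mul_left _
      · exact (even_iff_two_dvd.1 h.add_one).mul_right _
    omega
  have hN : ∀ z : ℕ, (z : ZMod r) = 0 → r ∣ z := fun z hz => (ZMod.natCast_eq_zero_iff _ _).1 hz
  have h1 : ((m + 1 : ℕ) : ZMod r) * ((m + 1 : ℕ) : ZMod r) = ((m + 1 : ℕ) : ZMod r) - 1 := by
    have h2 : (((m + 1) * m + 1 : ℕ) : ZMod r) = 0 := (ZMod.natCast_eq_zero_iff _ _).2 hd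
    push_cast at h2 ⊢
    linear_combination h2
  obtain ⟨P, hP⟩ : ∃ P : ZMod r, P = ((m + 1 : ℕ) : ZMod r) := ⟨_, rfl⟩
  rw [← hP] at h1
  have h2 : (2 : ZMod r) ≠ 0 := by
    intro h3
    exact hr2 ((Nat.prime_dvd_prime_iff_eq hr Nat.prime_two).1 (hN 2 (by exact_mod_cast h3)))
  have h3 : (3 : ZMod r) ≠ 0 := by
    intro h3
    exact hr3 ((Nat.prime_dvd_prime_iff_eq hr Nat.prime_three).1 (hN 3 (by exact_mod_cast h3)))
  have hne : P ≠ 0 := by
    intro h4
    rw [h4, mul_zero, zero_sub] at h1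
    exact one_ne_zero (neg_eq_zero.1 h1.symm)
  have hc3 : P ^ 3 = -1 := by linear_combination (P + 1) * h1
  have h6 : orderOf P = 6 := by
    refine orderOf_eq_of_pow_and_pow_div_prime (by norm_num) ?_ ?_
    · rw [show (6 : ℕ) = 3 * 2 by norm_num, pow_mul, hc3]
      ring
    · intro l hl hl6 h7
      have h8 : l = 2 ∨ l = 3 := by
        have h9 : l ∣ 2 * 3 := hl6
        rcases (Nat.Prime.dvd_mul hl).1 h9 with h | h
        · exact Or.inl ((Nat.prime_dvd_prime_iff_eq hl Nat.prime_two).1 h)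
        · exact Or.inr ((Nat.prime_dvd_prime_iff_eq hl Nat.prime_three).1 h)
      rcases h8 with rfl | rfl
      · change P ^ 3 = 1 at h7
        rw [hc3] at h7
        apply h2
        linear_combination -h7
      · change P ^ 2 = 1 at h7
        have h8 : P = 2 := by linear_combination h7 - h1
        rw [h8] at h7
        apply h3
        linear_combination h7
  refine ⟨hr, fun n => ?_, fun h => hne ?_⟩
  · have hp : 0 < (m + 1) ^ n := Nat.pos_of_ne_zero (pow_ne_zero _ (Nat.succ_ne_zero _))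
    rw [← ZMod.natCast_eq_zero_iff, Nat.cast_sub hp, Nat.cast_pow, Nat.cast_one, sub_eq_zero, ← hP, ← h6,
      orderOf_dvd_iff_pow_eq_one]
  · rw [hP]
    exact (ZMod.natCast_eq_zero_iff _ _).2 h

theorem exists_rk {p a : ℕ} (hp : p.Prime) (ha : 1 ≤ a) (h4 : 4 ≤ p ^ a) (h5 : p ^ a ≠ 5) : ∃ r k, RK p a r k := by
  rcases Nat.lt_or_ge a 2 with h2 | h2
  · obtain rfl : a = 1 := by omega
    rw [pow_one] at h4 h5
    have h7 : 7 ≤ p := by
      by_contra hcon
      interval_cases p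
      · exact absurd hp (by norm_num)
      · exact h5 rfl
      · exact absurd hp (by norm_num)
    obtain ⟨m, rfl⟩ : ∃ m, p = m + 1 := ⟨p - 1, by omega⟩
    obtain ⟨N, hN⟩ : ∃ N, N = (m + 1) * m + 1 := ⟨_, rfl⟩
    have hNd : N ∣ (m + 1) ^ (3 * 1) + 1 := ⟨m + 2, by rw [hN]; ring⟩
    by_cases hex : ∃ r, r.Prime ∧ 13 ≤ r ∧ r ∣ N
    · obtain ⟨r, hr, h13, hd⟩ := hex
      refine ⟨r, 1, hp, le_rfl, by rwa [pow_one], by rwa [pow_one], ?_, ?_, Or.inl ⟨h13, rfl⟩⟩
      · rw [mul_one]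
        exact prim_six hr (by omega) (hN ▸ hd)
      · rw [pow_one]
        exact hd.trans hNd
    · push Not at hex
      have hdiv : ∀ r, r.Prime → r ∣ N → r = 3 ∨ r = 7 := by
        intro r hr hd
        by_cases h : r = 3
        · exact Or.inl h
        right
        have h1 := dvd_pred (prim_six hr h (hN ▸ hd))
        have h3 : r < 13 := by
          by_contra h4
          exact hex r hr (by omega) hd
        have h4 := hr.two_le
        interval_cases r <;> first | rfl | (exfalso; revert h1 hr; norm_num)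
      have hN0 : N ≠ 0 := by omega
      have hN9 : ¬ 9 ∣ N := by
        intro h9
        obtain ⟨c, d, hd, hm⟩ : ∃ c d, d < 9 ∧ m = 9 * c + d := ⟨m / 9, m % 9, Nat.mod_lt _ (by norm_num), by omega⟩
        rw [hN, hm, show (9 * c + d + 1) * (9 * c + d) + 1 = 9 * (c * (9 * c + 2 * d + 1)) + ((d + 1) * d + 1) by ring]
          at h9
        have h10 : 9 ∣ (d + 1) * d + 1 := (Nat.dvd_add_right (Dvd.intro _ rfl)).1 h9
        interval_cases d <;> omega
      have hfac := Nat.ordProj_mul_ordCompl_eq_self N 7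
      obtain ⟨M, hM⟩ : ∃ M, M = N / 7 ^ N.factorization 7 := ⟨_, rfl⟩
      rw [← hM] at hfac
      have h7M : ¬ 7 ∣ M := by
        rw [hM]
        exact Nat.not_dvd_ordCompl (by norm_num) hN0
      have hMN : M ∣ N := by
        rw [hM]
        exact Nat.ordCompl_dvd N 7
      have hM0 : M ≠ 0 := fun h => hN0 (by rw [h] at hMN; exact zero_dvd_iff.1 hMN)
      have hM2 : ∃ c, M = 3 ^ c := by
        refine ⟨_, Nat.eq_prime_pow_of_unique_prime_dvd hM0 fun {d} hd hdM => ?_⟩
        rcases hdiv d hd (hdM.trans hMN) with h | h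
        · exact h
        · exact absurd (h ▸ hdM) h7M
      obtain ⟨c, hc⟩ := hM2
      have hc1 : c < 2 := by
        by_contra hcon
        apply hN9
        refine (?_ : 9 ∣ M).trans hMN
        rw [hc]
        exact pow_dvd_pow 3 (show 2 ≤ c by omega)
      have hMle : M ≤ 3 := by
        rw [hc]
        interval_cases c <;> norm_num
      have hNge : 43 ≤ N := by
        rw [hN]
        nlinarith
      have hb2 : 2 ≤ N.factorization 7 := by
        by_contra hcon
        have h1 : 7 ^ N.factorization 7 ≤ 7 ^ 1 := Nat.pow_le_pow_right (by norm_num) (by omega)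
        have h3 : 7 ^ N.factorization 7 * M ≤ 7 ^ 1 * 3 := Nat.mul_le_mul h1 hMle
        omega
      have h49 : 7 ^ 2 ∣ N := (pow_dvd_pow 7 hb2).trans (Nat.ordProj_dvd N 7)
      have h7N : 7 ∣ N := (by norm_num : 7 ∣ 7 ^ 2).trans h49
      refine ⟨7, 2, hp, le_rfl, by rwa [pow_one], by rwa [pow_one], ?_, h49.trans hNd, Or.inr ⟨rfl, rfl⟩⟩
      rw [mul_one]
      exact prim_six (by norm_num) (by norm_num) (hN ▸ h7N)
  · obtain ⟨r, hr⟩ := exists_prim (q := p) (e := 6 * a) hp.two_le (by omega) (by omega)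
    have h1 := dvd_pred hr
    have h3 : 13 ≤ r := by
      have h4 := hr.prime.two_le
      have h5 := Nat.le_of_dvd (by omega) h1
      omega
    refine ⟨r, 1, hp, ha, h4, h5, hr, ?_, Or.inl ⟨h3, rfl⟩⟩
    rw [pow_one]
    apply hr.dvd_add
    · exact ⟨1, by ring⟩
    · intro hd
      have := Nat.le_of_dvd (by omega) hd
      omega

end Cfsg.Agent.H59.O8S
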